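import Cfsg.Agent.S2E.P1c
import Cfsg.Agent.S2E.P5
import Cfsg.Agent.S2E.E0
import Cfsg.Agent.S2E.Fc
import Cfsg.Agent.S2E.ES

/-!
# Standard subgroups of type `²E₆(2ⁿ)`: the core theorem
-/

set_option autoImplicit false
set_option linter.unusedSectionVars false

namespace Cfsg.Lib.S2E

open Subgroup Cfsg.Lib.Trans Cfsg.Lib.Gold Cfsg.Lib.Chev
open Cfsg.Lib.SF4 hiding Hyp Ot H1 H0 DD XT H2 YK H3a H3 H4a EF ES Cn SA UA PA QA
open Cfsg.Lib.SG2 (KK Top Uq)
open scoped commutatorElement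

universe u v in
theorem core : CoreP.{u, v} := by
  intro G F _ _ _ _ β x y t X h hX hne
  have hN := hX.normal
  have hS := hX.simple
  have hLX : GA x y ≤ X := by
    have hXi : ∀ a b : G, ⁅a, b⁆ ∈ X := fun a b => by
      have hm : ∀ g : G, g ∈ X ∨ g * t ∈ X := fun g =>
        Comp.mem_sup_zpowers h.t2 (cj_eq_self_iff.1 (cj_eq_of_normal t X)) (hX.top ▸ mem_top g)
      rw [← QuotientGroup.eq_one_iff, ← QuotientGroup.mk'_apply, map_commutatorElement,
        commutatorElement_eq_one_iff_commute]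
      have hq : ∀ g : G, QuotientGroup.mk' X g = 1 ∨ QuotientGroup.mk' X g = (QuotientGroup.mk' X t)⁻¹ :=
        fun g => (hm g).imp (fun e => (QuotientGroup.eq_one_iff g).2 e) fun e => by
          rw [eq_inv_iff_mul_eq_one, ← map_mul]; exact (QuotientGroup.eq_one_iff _).2 e
      rcases hq a with e | e <;> rcases hq b with e' | e' <;> simp [e, e']
    rw [← h.toE6S.perf, commutator_le]
    exact fun a _ b _ => hXi a b
  have hq : IsQuasisimple X :=
    isQuasisimple_of_forall_normal (Comp.commutator_top_of_perfect hX.perf) fun N hN =>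
      hN.eq_bot_or_eq_top.symm.imp id fun e : N = ⊥ => e.le.trans bot_le
  have ht : t ∉ Cs X := fun hc => hne (le_antisymm hLX (h.perf hX.perf fun a ha =>
    mem_centralizer_singleton_iff.2 (mem_centralizer_iff.1 hc a ha)))
  obtain ⟨g, -, g1, g2⟩ := Comp.zstar_in hq h.t2 (cj_eq_self_iff.1 (cj_eq_of_normal t X)) ht
  obtain ⟨γ, X', Y', h5⟩ := (h.h1 g1 g2).h5
  rcases h5.cases with ⟨K, _, _, ι, σ, X'', Y'', hE⟩ | ⟨x₁, y₁, hE⟩
  · exact hE.con hX
  · exact (hE.false hX).elim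

end Cfsg.Lib.S2E
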